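import Cfsg.Agent.H652.DoubleCount
import Cfsg.Agent.H649.AbelLocal
set_option linter.all false

/-!
# Sums over subsections, for fusion controlled by a subgroup

`a = (P, e)` is a Brauer pair and `S` is a subgroup fixing `a`, such that two elements of `P` which
are fused in `a` are conjugate under `S`.

* `Ctrl p M a S`: the hypothesis;
* `sum_subsections`: a sum over the subsections `(u, b)` conjugate into `a` as a sum over `P`;
* `classInner_star`: the inner product of `star η χ` with `ψ`;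
* `ctrl_of_abelian`: the hypothesis for abelian `P`, with `S` the stabilizer of `a`.
-/

set_option autoImplicit false
set_option linter.unusedSectionVars false

open Cfsg
open scoped ComplexConjugate

namespace Cfsg.Agent.H645.FusCount

open Cfsg.Agent.H651 Cfsg.Agent.H649 Cfsg.Agent.Characters Cfsg.Agent.H652.Ctr
open Cfsg.Agent.H652.DoubleCount

variable {G : Type*} [Group G] {p : ℕ} {M : Ideal AlgInt}

/-- Fusion of elements in the pair `a` is controlled by the subgroup `S`, which fixes `a`. -/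
structure Ctrl (p : ℕ) (M : Ideal AlgInt) (a : BrauerPairIdx G) (S : Subgroup G) : Prop where
  fix : ∀ s ∈ S, conjIdx s a = a
  fus : ∀ (u x : G) (b : BrauerPairIdx G), u ∈ a.1 → b.1 = Subgroup.zpowers u →
    LEIdx p M b a → LEIdx p M (conjIdx x b) a → ∃ y ∈ S, x * u * x⁻¹ = y * u * y⁻¹

theorem Ctrl.conj_mem {a : BrauerPairIdx G} {S : Subgroup G} (hS : Ctrl p M a S) {s v : G}
    (hs : s ∈ S) (hv : v ∈ a.1) : s * v * s⁻¹ ∈ a.1 := by
  have h := congrArg Sigma.fst (hS.fix s hs)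
  rw [conjIdx_fst] at h
  rw [← h]
  exact ⟨v, hv, rfl⟩

theorem Ctrl.conj_mem' {a : BrauerPairIdx G} {S : Subgroup G} (hS : Ctrl p M a S) {s v : G}
    (hs : s ∈ S) (hv : v ∈ a.1) : s⁻¹ * v * s ∈ a.1 := by
  have h := hS.conj_mem (S.inv_mem hs) hv
  rwa [inv_inv] at h

section

variable [Fintype G] [M.IsPrime] (hM : IsPModular p M) {a : BrauerPairIdx G}
  (ha : IsBrauerPair p M a.1 a.2) {S : Subgroup G} (hS : Ctrl p M a S)

include hM ha hS

theorem bP_conj {v y : G} (hv : v ∈ a.1) (hy : y ∈ S) :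
    bP p M a (y * v * y⁻¹) = conjIdx y (bP p M a v) := by
  obtain ⟨h1, h2⟩ := bP_spec hM ha hv
  refine bP_eq hM ha (hS.conj_mem hy hv) ?_ ?_
  · rw [conjIdx_fst, h1, MonoidHom.map_zpowers]
    rfl
  · have h3 := (leIdx_conjIdx_iff y).2 h2
    rwa [hS.fix y hy] at h3

/-- The number of `(g', v')` with the same image as `(g, v)`. -/
theorem card_fiber (g : G) (v : a.1) :
    Nat.card {y : G × a.1 // y.1 * (y.2 : G) * y.1⁻¹ = g * v * g⁻¹ ∧
      conjIdx y.1 (bP p M a (y.2 : G)) = conjIdx g (bP p M a (v : G))} *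
      Nat.card (S ⊓ Subgroup.centralizer ({(v : G)} : Set G) : Subgroup G) =
    Nat.card (Subgroup.centralizer ({(v : G)} : Set G)) * Nat.card S := by
  classical
  -- a choice of conjugating elements
  have hch : ∀ v' : a.1, ∃ y : S, (∃ y : S, (v' : G) = (y : G)⁻¹ * v * y) →
      (v' : G) = (y : G)⁻¹ * v * y := by
    intro v'
    by_cases h : ∃ y : S, (v' : G) = (y : G)⁻¹ * v * y
    · exact ⟨h.choose, fun _ => h.choose_spec⟩
    · exact ⟨1, fun h' => absurd h' h⟩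
  choose y0 hy0 using hch
  have hconj : ∀ y : G × a.1, y.1 * (y.2 : G) * y.1⁻¹ = g * v * g⁻¹ →
      conjIdx y.1 (bP p M a (y.2 : G)) = conjIdx g (bP p M a (v : G)) →
      ∃ y' : S, (y.2 : G) = (y' : G)⁻¹ * v * y' := by
    rintro ⟨g', v'⟩ h1 h2
    simp only at h1 h2 ⊢
    obtain ⟨h3, h4⟩ := bP_spec hM ha v.2
    obtain ⟨h5, h6⟩ := bP_spec hM ha v'.2
    have h7 : conjIdx (g'⁻¹ * g) (bP p M a (v : G)) = bP p M a (v' : G) := by
      rw [← conjIdx_conjIdx, ← h2, conjIdx_inv_conjIdx]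
    obtain ⟨y, hy, hyv⟩ := hS.fus v (g'⁻¹ * g) _ v.2 h3 h4 (by rw [h7]; exact h6)
    refine ⟨⟨y⁻¹, S.inv_mem hy⟩, ?_⟩
    have h8 : (v' : G) = g'⁻¹ * g * v * (g'⁻¹ * g)⁻¹ := by
      calc (v' : G) = g'⁻¹ * (g' * v' * g'⁻¹) * g' := by group
        _ = g'⁻¹ * (g * v * g⁻¹) * g' := by rw [h1]
        _ = _ := by group
    rw [h8, hyv]
    simp
  rw [← Nat.card_prod, ← Nat.card_prod]
  refine Nat.card_congr
    { toFun := fun w => (⟨g⁻¹ * w.1.1.1 * ((w.2 : G) * y0 w.1.1.2)⁻¹, ?_⟩,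
        ⟨(w.2 : G) * y0 w.1.1.2, S.mul_mem w.2.2.1 (y0 w.1.1.2).2⟩)
      invFun := fun w => (⟨(g * w.1 * w.2, ⟨(w.2 : G)⁻¹ * v * w.2,
          hS.conj_mem' w.2.2 v.2⟩), ?_, ?_⟩,
        ⟨(w.2 : G) * (y0 ⟨(w.2 : G)⁻¹ * v * w.2,
          hS.conj_mem' w.2.2 v.2⟩ : G)⁻¹, ?_⟩)
      left_inv := ?_
      right_inv := ?_ }
  · obtain ⟨⟨⟨g', v'⟩, h1, h2⟩, ⟨c, hcP, hcv⟩⟩ := w
    simp only
    have h3 := hy0 v' (hconj _ h1 h2)
    have h4 : c * (v : G) = v * c := Subgroup.mem_centralizer_singleton_iff.1 hcv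
    have h1' : g' * (v' : G) * g'⁻¹ = g * v * g⁻¹ := h1
    rw [Subgroup.mem_centralizer_singleton_iff]
    have h5 : (c * (y0 v' : G))⁻¹ * v * (c * y0 v') = v' := by
      rw [h3]
      have h6 : c⁻¹ * (v : G) * c = v := by
        rw [mul_assoc, ← h4, inv_mul_cancel_left]
      calc (c * (y0 v' : G))⁻¹ * v * (c * y0 v') = (y0 v' : G)⁻¹ * (c⁻¹ * v * c) * y0 v' := by group
        _ = _ := by rw [h6]
    have h7 : ((c * (y0 v' : G))⁻¹) * v = v' * (c * (y0 v' : G))⁻¹ := by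
      rw [eq_mul_inv_iff_mul_eq]
      exact h5
    calc g⁻¹ * g' * (c * (y0 v' : G))⁻¹ * v = g⁻¹ * g' * ((c * (y0 v' : G))⁻¹ * v) := by group
      _ = g⁻¹ * (g' * v' * g'⁻¹) * g' * (c * (y0 v' : G))⁻¹ := by rw [h7]; group
      _ = v * (g⁻¹ * g' * (c * (y0 v' : G))⁻¹) := by rw [h1']; group
  · obtain ⟨⟨z, hz⟩, ⟨y, hy⟩⟩ := w
    simp only
    have h1 : z * (v : G) = v * z := Subgroup.mem_centralizer_singleton_iff.1 hz
    calc g * z * y * (y⁻¹ * v * y) * (g * z * y)⁻¹ = g * (z * v) * z⁻¹ * g⁻¹ := by group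
      _ = g * v * g⁻¹ := by rw [h1]; group
  · obtain ⟨⟨z, hz⟩, ⟨y, hy⟩⟩ := w
    simp only
    have h1 : Commute z (v : G) := Subgroup.mem_centralizer_singleton_iff.1 hz
    have h2 := bP_conj hM ha hS v.2 (S.inv_mem hy)
    rw [inv_inv] at h2
    rw [h2, conjIdx_conjIdx, mul_inv_cancel_right, ← conjIdx_conjIdx,
      conjIdx_bP_of_commute hM ha v.2 h1]
  · obtain ⟨⟨z, hz⟩, ⟨y, hy⟩⟩ := w
    simp only
    set v' : a.1 := ⟨y⁻¹ * v * y, hS.conj_mem' hy v.2⟩ with hv'
    have h3 : y⁻¹ * (v : G) * y = (y0 v' : G)⁻¹ * v * y0 v' := hy0 v' ⟨⟨y, hy⟩, rfl⟩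
    refine ⟨S.mul_mem hy (S.inv_mem (y0 v').2), ?_⟩
    change y * (y0 v' : G)⁻¹ ∈ Subgroup.centralizer ({(v : G)} : Set G)
    rw [Subgroup.mem_centralizer_singleton_iff]
    calc y * (y0 v' : G)⁻¹ * v = y * ((y0 v' : G)⁻¹ * v * y0 v') * (y0 v' : G)⁻¹ := by group
      _ = y * (y⁻¹ * (v : G) * y) * (y0 v' : G)⁻¹ := by rw [h3]
      _ = v * (y * (y0 v' : G)⁻¹) := by group
  · rintro ⟨⟨⟨g', v'⟩, h1, h2⟩, ⟨c, hc⟩⟩
    have h3 := hy0 v' (hconj _ h1 h2)
    have hcv : c * (v : G) = v * c := Subgroup.mem_centralizer_singleton_iff.1 hc.2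
    have hv' : (⟨((c * (y0 v' : G)))⁻¹ * v * (c * (y0 v' : G)),
        hS.conj_mem' (S.mul_mem hc.1 (y0 v').2) v.2⟩ : a.1) = v' := by
      apply Subtype.ext
      change (c * (y0 v' : G))⁻¹ * v * (c * (y0 v' : G)) = v'
      rw [h3]
      have h6 : c⁻¹ * (v : G) * c = v := by
        rw [mul_assoc, ← hcv, inv_mul_cancel_left]
      calc (c * (y0 v' : G))⁻¹ * v * (c * y0 v') = (y0 v' : G)⁻¹ * (c⁻¹ * v * c) * y0 v' := by group
        _ = _ := by rw [h6]
    refine Prod.ext (Subtype.ext (Prod.ext ?_ ?_)) (Subtype.ext ?_)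
    · simp only
      group
    · exact hv'
    · simp only
      rw [hv']
      group
  · rintro ⟨⟨z, hz⟩, ⟨y, hy⟩⟩
    refine Prod.ext (Subtype.ext ?_) (Subtype.ext ?_)
    · simp only
      group
    · simp only
      group

/-- A sum over the subsections conjugate into `a`, as a sum over `P`. -/
theorem sum_subsections [Fintype a.1] (F : G → BrauerPairIdx G → ℂ)
    (hF1 : ∀ (x u : G) (b : BrauerPairIdx G), b.1 = Subgroup.zpowers u →
      F (x * u * x⁻¹) (conjIdx x b) = F u b)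
    (hF2 : ∀ (u : G) (b : BrauerPairIdx G), b ∈ blkPairs M (Subgroup.zpowers u) → F u b ≠ 0 →
      ∃ x, LEIdx p M (conjIdx x b) a) :
    ∑ u : G, ∑ᶠ b ∈ blkPairs M (Subgroup.zpowers u), F u b =
      (Nat.card G : ℂ) * (Nat.card S : ℂ)⁻¹ * ∑ v : a.1,
        (Nat.card (S ⊓ Subgroup.centralizer ({(v : G)} : Set G) : Subgroup G) : ℂ) *
        (Nat.card (Subgroup.centralizer ({(v : G)} : Set G)) : ℂ)⁻¹ *
          F v (bP p M a (v : G)) := by
  classical
  have hfin : Finite (BrauerPairIdx G) := finite_brauerPairIdx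
  have := Fintype.ofFinite (BrauerPairIdx G)
  set F' : G × BrauerPairIdx G → ℂ := fun x =>
    if x.2 ∈ blkPairs M (Subgroup.zpowers x.1) then F x.1 x.2 else 0 with hF'
  set m : G × a.1 → G × BrauerPairIdx G := fun y =>
    (y.1 * (y.2 : G) * y.1⁻¹, conjIdx y.1 (bP p M a (y.2 : G))) with hm
  set N : G × BrauerPairIdx G → ℕ := fun x =>
    (Finset.univ.filter (fun y : G × a.1 => m y = x)).card with hN
  have hLHS : ∑ u : G, ∑ᶠ b ∈ blkPairs M (Subgroup.zpowers u), F u b = ∑ x, F' x := by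
    rw [Fintype.sum_prod_type]
    refine Finset.sum_congr rfl fun u _ => ?_
    rw [finsum_mem_eq_toFinset_sum, ← Finset.sum_filter]
    refine Finset.sum_congr ?_ fun _ _ => rfl
    ext b
    simp
  have hF'm : ∀ y : G × a.1, F' (m y) = F (y.2 : G) (bP p M a (y.2 : G)) := by
    rintro ⟨g, v⟩
    have h1 := bP_mem_blkPairs hM ha v.2
    have h2 := mem_blkPairs_conj h1 g
    have h3 : F' (m (g, v)) = F (g * v * g⁻¹) (conjIdx g (bP p M a (v : G))) := if_pos h2
    rw [h3, hF1 _ _ _ h1.1]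
  have hNm : ∀ y : G × a.1, (N (m y) : ℂ) *
      (Nat.card (S ⊓ Subgroup.centralizer ({(y.2 : G)} : Set G) : Subgroup G) : ℂ) =
      (Nat.card (Subgroup.centralizer ({(y.2 : G)} : Set G)) : ℂ) * (Nat.card S : ℂ) := by
    rintro ⟨g, v⟩
    have h1 := card_fiber hM ha hS g v
    have h2 : Nat.card {y : G × a.1 // y.1 * (y.2 : G) * y.1⁻¹ = g * v * g⁻¹ ∧
      conjIdx y.1 (bP p M a (y.2 : G)) = conjIdx g (bP p M a (v : G))} = N (m (g, v)) := by
      rw [Nat.card_eq_fintype_card, Fintype.card_subtype, hN]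
      congr 1
      ext y
      simp only [Finset.mem_filter, Finset.mem_univ, true_and, hm, Prod.mk.injEq]
    rw [h2] at h1
    exact_mod_cast h1
  have hsum : ∑ x, F' x = ∑ y : G × a.1, F' (m y) * (N (m y) : ℂ)⁻¹ := by
    rw [← Finset.sum_fiberwise Finset.univ m (fun y => F' (m y) * (N (m y) : ℂ)⁻¹)]
    refine Finset.sum_congr rfl fun x _ => ?_
    have h1 : ∑ y ∈ Finset.univ.filter (fun y => m y = x), F' (m y) * (N (m y) : ℂ)⁻¹ =
        ∑ y ∈ Finset.univ.filter (fun y => m y = x), F' x * (N x : ℂ)⁻¹ :=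
      Finset.sum_congr rfl fun y hy => by rw [(Finset.mem_filter.1 hy).2]
    rw [h1, Finset.sum_const, nsmul_eq_mul]
    change F' x = (N x : ℂ) * (F' x * (N x : ℂ)⁻¹)
    by_cases hx : F' x = 0
    · rw [hx, zero_mul, mul_zero]
    · obtain ⟨u, b⟩ := x
      have hb : b ∈ blkPairs M (Subgroup.zpowers u) := by
        by_contra h
        exact hx (if_neg h)
      have h2 : F' (u, b) = F u b := if_pos hb
      rw [h2] at hx
      obtain ⟨x, hxb⟩ := hF2 u b hb hx
      have hNx : N (u, b) ≠ 0 := by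
        rw [hN]
        refine Finset.card_ne_zero.2 ?_
        have h3 : (conjIdx x b).1 = Subgroup.zpowers (x * u * x⁻¹) :=
          (mem_blkPairs_conj hb x).1
        have hv : x * u * x⁻¹ ∈ a.1 := LEIdx.le hxb (by
          rw [h3]
          exact Subgroup.mem_zpowers _)
        refine ⟨(x⁻¹, ⟨x * u * x⁻¹, hv⟩), ?_⟩
        rw [Finset.mem_filter]
        refine ⟨Finset.mem_univ _, ?_⟩
        rw [hm]
        simp only
        rw [bP_eq hM ha hv h3 hxb, conjIdx_inv_conjIdx]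
        refine Prod.ext ?_ rfl
        simp only
        group
      field_simp
  rw [hLHS, hsum, Fintype.sum_prod_type]
  have hterm : ∀ (g : G) (v : a.1), F' (m (g, v)) * (N (m (g, v)) : ℂ)⁻¹ =
      (Nat.card S : ℂ)⁻¹ * ((Nat.card (S ⊓ Subgroup.centralizer ({(v : G)} : Set G) :
        Subgroup G) : ℂ) * (Nat.card (Subgroup.centralizer ({(v : G)} : Set G)) : ℂ)⁻¹ *
          F v (bP p M a (v : G))) := by
    intro g v
    have h1 := hNm (g, v)
    simp only at h1
    have hc1 : (Nat.card (S ⊓ Subgroup.centralizer ({(v : G)} : Set G) : Subgroup G) : ℂ) ≠ 0 :=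
      by exact_mod_cast Nat.card_pos.ne'
    have hc2 : (Nat.card (Subgroup.centralizer ({(v : G)} : Set G)) : ℂ) ≠ 0 := by
      exact_mod_cast Nat.card_pos.ne'
    have hc3 : (Nat.card S : ℂ) ≠ 0 := by exact_mod_cast Nat.card_pos.ne'
    have hc4 : (N (m (g, v)) : ℂ) ≠ 0 := by
      intro h0
      rw [h0, zero_mul] at h1
      exact mul_ne_zero hc2 hc3 h1.symm
    rw [hF'm (g, v)]
    simp only
    rw [← div_eq_mul_inv, div_eq_iff hc4]
    field_simp
    linear_combination (-F (v : G) (bP p M a (v : G))) * h1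
  simp_rw [hterm]
  rw [Finset.sum_const, Finset.card_univ, nsmul_eq_mul, ← Finset.mul_sum,
    Nat.card_eq_fintype_card (α := G)]
  ring

end

section inner

variable [Fintype G] [Fact p.Prime] [M.IsPrime] (hM : IsPModular p M) {a : BrauerPairIdx G}
  (ha : IsBrauerPair p M a.1 a.2) {S : Subgroup G} (hS : Ctrl p M a S)

include hM ha hS

/-- The inner product of `star η χ` with `ψ`, for controlled fusion. -/
theorem classInner_star [Fintype a.1] {η χ ψ : G → ℂ}
    (hη : IsStable p M a η) (hχ : IsClassFunction G χ) (hψ : IsClassFunction G ψ) :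
    classInner (H651.star p M a η χ) ψ = (Nat.card S : ℂ)⁻¹ * ∑ v : a.1, η v *
      ((Nat.card (S ⊓ Subgroup.centralizer ({(v : G)} : Set G) : Subgroup G) : ℂ) *
        ctr p (v : G) (bP p M a (v : G)) χ ψ) := by
  classical
  have hp : p.Prime := Fact.out
  unfold H651.star
  rw [classInner_starW]
  rw [sum_subsections hM ha hS (fun u b => if ∃ k : ℕ, orderOf u = p ^ k then etaW p M a η u b *
          ((Nat.card (Subgroup.centralizer ({u} : Set G)) : ℂ) * ctr p u b χ ψ) else 0)]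
  · rw [← mul_assoc, ← mul_assoc, inv_mul_cancel₀ (by exact_mod_cast Nat.card_pos.ne'), one_mul]
    congr 1
    refine Finset.sum_congr rfl fun v _ => ?_
    obtain ⟨h1, h2⟩ := bP_spec hM ha v.2
    have h3 : etaW p M a η (v : G) (bP p M a (v : G)) = η v := by
      have h4 := etaW_eq hη (x := 1) h1 (by rw [conjIdx_one]; exact h2)
      rw [h4]
      congr 1
      group
    rw [if_pos (exists_orderOf_eq_pow hM ha hp v.2), h3]
    have hc2 : (Nat.card (Subgroup.centralizer ({(v : G)} : Set G)) : ℂ) ≠ 0 := by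
      exact_mod_cast Nat.card_pos.ne'
    field_simp
  · intro x u b hb
    have h1 : orderOf (x * u * x⁻¹) = orderOf u := Cfsg.Agent.Blocks.Blau.orderOf_conj_eq u x
    simp only [h1]
    rw [etaW_conj hη x u hb, card_centralizer_conj, ctr_conj p x u b hχ hψ]
  · intro u b _ h
    by_contra hcon
    apply h
    rw [etaW_eq_zero hcon, zero_mul, ite_self]

end inner

section abel

variable [Finite G] [Fact p.Prime]

/-- The stabilizer of a pair. -/
def stab (a : BrauerPairIdx G) : Subgroup G where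
  carrier := {x | conjIdx x a = a}
  one_mem' := conjIdx_one a
  mul_mem' {x y} hx hy := by
    change conjIdx (x * y) a = a
    rw [← conjIdx_conjIdx, show conjIdx y a = a from hy, show conjIdx x a = a from hx]
  inv_mem' {x} hx := by
    change conjIdx x⁻¹ a = a
    conv_lhs => rw [← show conjIdx x a = a from hx]
    exact conjIdx_inv_conjIdx x a

omit [Finite G] in
theorem mem_stab {a : BrauerPairIdx G} {x : G} : x ∈ stab a ↔ conjIdx x a = a := Iff.rfl

/-- For abelian `P`, the stabilizer of the maximal pair controls fusion of pairs. -/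
theorem exists_mul_of_le (hM : IsPModular p M) {B : Set (IrrCharacter G)} {a : BrauerPairIdx G}
    (hmax : IsMaximalBrauerPair p M B a.1 a.2) (hab : ∀ x ∈ a.1, ∀ y ∈ a.1, x * y = y * x)
    {x : G} {b : BrauerPairIdx G} (h1 : LEIdx p M b a) (h2 : LEIdx p M (conjIdx x b) a) :
    ∃ t ∈ stab a, ∀ u ∈ b.1, x * u * x⁻¹ = t * u * t⁻¹ := by
  obtain ⟨P, e⟩ := a
  obtain ⟨Q, f⟩ := b
  have hQP : Q ≤ P := LEIdx.le h1
  have hPC : P ≤ Subgroup.centralizer (Q : Set G) := fun y hy =>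
    Subgroup.mem_centralizer_iff.2 fun q hq => hab q (hQP hq) y hy
  have h3 : LEIdx p M ⟨Q, f⟩ (conjIdx x⁻¹ ⟨P, e⟩) := by
    have h := (leIdx_conjIdx_iff (p := p) (M := M) x⁻¹ (a := conjIdx x ⟨Q, f⟩)
      (b := ⟨P, e⟩)).2 h2
    rwa [conjIdx_inv_conjIdx] at h
  have hle : (P.map (MulAut.conj x⁻¹).toMonoidHom) ≤ Subgroup.centralizer (Q : Set G) := by
    have h4 : Q ≤ P.map (MulAut.conj x⁻¹).toMonoidHom := LEIdx.le h3
    rintro _ ⟨y, hy, rfl⟩
    refine Subgroup.mem_centralizer_iff.2 fun q hq => ?_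
    obtain ⟨z, hz, rfl⟩ := h4 hq
    rw [← map_mul, ← map_mul, hab z hz y hy]
  obtain ⟨c, hc, hce⟩ := exists_conj_of_centralizes hM hmax hPC h1 (P' := P.map
    (MulAut.conj x⁻¹).toMonoidHom) (e' := conjBlock P x⁻¹ e) hle
    (by rw [conjIdx_mk] at h3; exact h3)
    (Nat.card_congr (P.equivMapOfInjective _ (MulAut.conj x⁻¹).injective).toEquiv).symm
    ((isBrauerPair_conj_iff P x⁻¹ e).2 hmax.1.1)
  rw [← conjIdx_mk, conjIdx_conjIdx] at hce
  refine ⟨(c * x⁻¹)⁻¹, (stab _).inv_mem hce, fun u hu' => ?_⟩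
  have hcu : u * c = c * u := Subgroup.mem_centralizer_iff.1 hc u hu'
  have h5 : c⁻¹ * u * c = u := by rw [mul_assoc, hcu, inv_mul_cancel_left]
  calc x * u * x⁻¹ = x * (c⁻¹ * u * c) * x⁻¹ := by rw [h5]
    _ = _ := by group

/-- For abelian `P`, the stabilizer of the maximal pair controls fusion. -/
theorem ctrl_of_abelian (hM : IsPModular p M) {B : Set (IrrCharacter G)} {a : BrauerPairIdx G}
    (hmax : IsMaximalBrauerPair p M B a.1 a.2) (hab : ∀ x ∈ a.1, ∀ y ∈ a.1, x * y = y * x) :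
    Ctrl p M a (stab a) := by
  refine ⟨fun s hs => hs, ?_⟩
  intro u x b hu hb h1 h2
  obtain ⟨t, ht, h⟩ := exists_mul_of_le hM hmax hab h1 h2
  exact ⟨t, ht, h u (by rw [hb]; exact Subgroup.mem_zpowers u)⟩

end abel

end Cfsg.Agent.H645.FusCount
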