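import Mathlib
set_option linter.all false

/-!
# A `p'`-element acting nontrivially on a `p`-group of order at most four is transitive

* `exists_pow_conj` : if `P` is a `p`-subgroup of order at most `4`, `t` a `p`-regular element of
  `N_G(P)` with `t u t⁻¹ ≠ u`, `u ∈ P`, then every nontrivial element of `P` is `t ^ i u t ^ (-i)`
  for some `i`; moreover `3 ≤ |P|`.
-/

set_option autoImplicit false

namespace Cfsg.Agent.H645.SmallTrans

variable {G : Type*} [Group G]

theorem exists_pow_conj [Finite G] {p : ℕ} (hp : p.Prime) {P : Subgroup G} {a : ℕ}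
    (hP : Nat.card P = p ^ a) (h4 : Nat.card P ≤ 4) {t : G}
    (ht : t ∈ Subgroup.normalizer (P : Set G)) (htp : ¬ p ∣ orderOf t) {u : G} (hu : u ∈ P)
    (htu : t * u * t⁻¹ ≠ u) :
    3 ≤ Nat.card P ∧ ∀ z ∈ P, z ≠ 1 → ∃ i : ℕ, z = t ^ i * u * (t ^ i)⁻¹ := by
  classical
  have : Fintype P := Fintype.ofFinite P
  have hu1 : u ≠ 1 := by
    rintro rfl
    exact htu (by group)
  set v := t * u * t⁻¹ with hv
  have hvP : v ∈ P := (Subgroup.mem_normalizer_iff.1 ht u).1 hu
  have hv1 : v ≠ 1 := by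
    intro h
    apply hu1
    have : u = t⁻¹ * v * t := by rw [hv]; group
    rw [this, h]; group
  -- a subgroup of `P` containing `u` and `v` has at least three elements
  have h3 : ∀ Q : Subgroup G, u ∈ Q → v ∈ Q → 3 ≤ Nat.card Q := by
    intro Q huQ hvQ
    have : Fintype Q := Fintype.ofFinite Q
    rw [Nat.card_eq_fintype_card]
    have h1 : ({1, ⟨u, huQ⟩, ⟨v, hvQ⟩} : Finset Q).card = 3 := by
      rw [Finset.card_eq_three]
      refine ⟨1, ⟨u, huQ⟩, ⟨v, hvQ⟩, ?_, ?_, ?_, rfl⟩
      · exact fun h => hu1 (congrArg Subtype.val h).symm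
      · exact fun h => hv1 (congrArg Subtype.val h).symm
      · exact fun h => htu (congrArg Subtype.val h).symm
    rw [← h1]
    exact Finset.card_le_univ _
  refine ⟨h3 P hu hvP, fun z hz hz1 => ?_⟩
  by_cases hzu : z = u
  · exact ⟨0, by simpa using hzu⟩
  by_cases hzv : z = v
  · exact ⟨1, by rw [pow_one]; exact hzv⟩
  -- now `|P| = 4`
  set u' : P := ⟨u, hu⟩
  set v' : P := ⟨v, hvP⟩
  set z' : P := ⟨z, hz⟩
  have hne1 : (1 : P) ≠ u' := fun h => hu1 (congrArg Subtype.val h).symm
  have hne2 : (1 : P) ≠ v' := fun h => hv1 (congrArg Subtype.val h).symm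
  have hne3 : (1 : P) ≠ z' := fun h => hz1 (congrArg Subtype.val h).symm
  have hne4 : u' ≠ v' := fun h => htu (congrArg Subtype.val h).symm
  have hne5 : u' ≠ z' := fun h => hzu (congrArg Subtype.val h).symm
  have hne6 : v' ≠ z' := fun h => hzv (congrArg Subtype.val h).symm
  have hc4 : ({1, u', v', z'} : Finset P).card = 4 := by
    rw [Finset.card_insert_of_notMem (by simp [hne1, hne2, hne3]),
      Finset.card_insert_of_notMem (by simp [hne4, hne5]),
      Finset.card_insert_of_notMem (by simp [hne6]), Finset.card_singleton]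
  have hcard : Nat.card P = 4 := by
    refine le_antisymm h4 ?_
    rw [Nat.card_eq_fintype_card, ← hc4]
    exact Finset.card_le_univ _
  have huniv : ∀ y : P, y = 1 ∨ y = u' ∨ y = v' ∨ y = z' := by
    have h1 : ({1, u', v', z'} : Finset P) = Finset.univ := by
      apply Finset.eq_univ_of_card
      rw [hc4, ← Nat.card_eq_fintype_card, hcard]
    intro y
    have h2 : y ∈ ({1, u', v', z'} : Finset P) := by rw [h1]; exact Finset.mem_univ y
    simpa using h2
  have hp2 : p = 2 := by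
    have h1 : p ∣ 2 ^ 2 := by
      rw [show 2 ^ 2 = 4 by norm_num, ← hcard, hP]
      rcases Nat.eq_zero_or_pos a with h0 | h0
      · rw [hP, h0] at hcard
        norm_num at hcard
      · exact dvd_pow_self p h0.ne'
    exact (Nat.prime_dvd_prime_iff_eq hp Nat.prime_two).1 (hp.dvd_of_dvd_pow h1)
  subst hp2
  set w := t * v * t⁻¹ with hw
  have hwP : w ∈ P := (Subgroup.mem_normalizer_iff.1 ht v).1 hvP
  have hw1 : w ≠ 1 := by
    intro h
    apply hv1
    have : v = t⁻¹ * w * t := by rw [hw]; group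
    rw [this, h]; group
  have hwv : w ≠ v := by
    intro h
    apply htu
    have h1 : t * v * t⁻¹ = t * u * t⁻¹ := by rw [← hw, h]
    exact mul_left_cancel (mul_right_cancel h1)
  have hwu : w ≠ u := by
    intro h
    -- `t ^ 2` centralizes `u` and `v`
    have h1 : (t ^ 2) * u * (t ^ 2)⁻¹ = u := by
      have : (t ^ 2) * u * (t ^ 2)⁻¹ = w := by
        rw [hw, hv, pow_two]
        simp only [mul_inv_rev, mul_assoc]
      rw [this, h]
    obtain ⟨k, hk⟩ : ∃ k : ℕ, (t ^ 2) ^ k = t := by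
      have hcop : Nat.Coprime 2 (orderOf t) := (Nat.Prime.coprime_iff_not_dvd Nat.prime_two).2 htp
      obtain ⟨k, hk⟩ := exists_pow_eq_self_of_coprime hcop
      exact ⟨k, hk⟩
    have hc : Commute (t ^ 2) u := by
      have h2 : (t ^ 2) * u = u * (t ^ 2) := by
        calc (t ^ 2) * u = (t ^ 2) * u * (t ^ 2)⁻¹ * (t ^ 2) := by group
          _ = u * (t ^ 2) := by rw [h1]
      exact h2
    have h3 : Commute ((t ^ 2) ^ k) u := hc.pow_left k
    rw [hk] at h3
    apply htu
    rw [hv, h3.eq, mul_inv_cancel_right]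
  have hwz : w = z := by
    rcases huniv ⟨w, hwP⟩ with h | h | h | h
    · exact absurd (congrArg Subtype.val h) hw1
    · exact absurd (congrArg Subtype.val h) hwu
    · exact absurd (congrArg Subtype.val h) hwv
    · exact congrArg Subtype.val h
  refine ⟨2, ?_⟩
  rw [← hwz, hw, hv, pow_two]
  simp only [mul_inv_rev, mul_assoc]

/-- If `t ∉ C` and `t` normalizes `C` with `|T : C|` prime to `p`, some power of `t` of order prime to
`p` is not in `C`. -/
theorem pow_notMem {p : ℕ} (hp : p.Prime) {C T : Subgroup G} (hCT : C ≤ T)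
    [hn : (C.subgroupOf T).Normal] (hm : ¬ p ∣ C.relIndex T) {t : G} (htT : t ∈ T) (htC : t ∉ C)
    (a : ℕ) : t ^ p ^ a ∉ C := by
  intro h
  apply htC
  have h1 : t ^ (C.relIndex T) ∈ C := by
    exact Subgroup.pow_index_mem (C.subgroupOf T) ⟨t, htT⟩
  have hcop : Nat.Coprime (p ^ a) (C.relIndex T) :=
    Nat.Coprime.pow_left a ((Nat.Prime.coprime_iff_not_dvd hp).2 hm)
  have h2 : (1 : ℤ) = (p ^ a : ℕ) * Nat.gcdA (p ^ a) (C.relIndex T) +
      (C.relIndex T : ℕ) * Nat.gcdB (p ^ a) (C.relIndex T) := by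
    rw [← Nat.gcd_eq_gcd_ab, hcop.gcd_eq_one]
    rfl
  have h3 : t = (t ^ (p ^ a)) ^ Nat.gcdA (p ^ a) (C.relIndex T) *
      (t ^ (C.relIndex T)) ^ Nat.gcdB (p ^ a) (C.relIndex T) := by
    rw [← zpow_natCast, ← zpow_natCast, ← zpow_mul, ← zpow_mul, ← zpow_add, ← h2, zpow_one]
  rw [h3]
  exact C.mul_mem (C.zpow_mem h _) (C.zpow_mem h1 _)

end Cfsg.Agent.H645.SmallTrans
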